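import Groth.Agent.H9Misc.DRingLTensorCx
import Groth.Agent.KExact.Psi
import Groth.Agent.KExact.Opcycles
import Mathlib.RingTheory.Flat.Basic
import Mathlib.Algebra.Homology.HomologySequence

/-!
# Left exactness of `M ↦ H^p(M ⊗^L K)` over a ring forces flat opcycles
-/

set_option autoImplicit false
set_option linter.style.haveILetI false
set_option backward.isDefEq.respectTransparency false
set_option backward.isDefEq.respectTransparency.types false

universe u

open CategoryTheory CategoryTheory.Limits MonoidalCategory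

attribute [local instance] HasDerivedCategory.standard

namespace Groth.Agent.DRingSided

open KFlatLib H9Misc.DRingLTensor

variable {A : Type u} [CommRing A]

/-- `M ↦ M ⊗ R`, termwise. -/
noncomputable def ten (R : DRing.Cx A) : ModuleCat.{u} A ⥤ DRing.Cx A where
  obj G := (((curriedTensor (ModuleCat.{u} A)).flip.obj G).mapHomologicalComplex (ComplexShape.up ℤ)).obj R
  map g := (NatTrans.mapHomologicalComplex ((curriedTensor (ModuleCat.{u} A)).flip.map g) (ComplexShape.up ℤ)).app R
  map_id G := by
    refine HomologicalComplex.hom_ext _ _ fun n => ?_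
    exact ((curriedTensor (ModuleCat.{u} A)).obj (R.X n)).map_id G
  map_comp g g' := by
    refine HomologicalComplex.hom_ext _ _ fun n => ?_
    exact ((curriedTensor (ModuleCat.{u} A)).obj (R.X n)).map_comp g g'

/-- `M ↦ H^p(M ⊗ R)`. -/
noncomputable def psi (R : DRing.Cx A) (p : ℤ) : ModuleCat.{u} A ⥤ ModuleCat.{u} A :=
  ten R ⋙ HomologicalComplex.homologyFunctor (ModuleCat.{u} A) (ComplexShape.up ℤ) p

/-- `M[0] ⊗ R` is `M ⊗ R`. -/
noncomputable def tenSingleIso (R : DRing.Cx A) :
    HomologicalComplex.single (ModuleCat.{u} A) (ComplexShape.up ℤ) 0 ⋙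
      (curriedTensor (ModuleCat.{u} A)).map₂CochainComplex.flip.obj R ≅ ten R :=
  Functor.isoWhiskerLeft _ (symmIso curriedTensorFlipIso R) ≪≫
    NatIso.ofComponents (fun G => (singleIso (curriedTensor (ModuleCat.{u} A)) G).app R)
      (fun g => KExact.singleIso_naturality (curriedTensor (ModuleCat.{u} A)) R g)

/-- `M ↦ H^p(M ⊗^L E)` is computed by any K-flat complex quasi-isomorphic to `E`. -/
theorem nonempty_psiIso {E R : DRing.Cx A} [DRing.HasLTensorCx A E] (q : R ⟶ E) [QuasiIso q]
    (hR : IsKF R) (p : ℤ) :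
    Nonempty (DerivedCategory.singleFunctor (ModuleCat.{u} A) 0 ⋙ DRing.LTensorCx A E ⋙
      DerivedCategory.homologyFunctor (ModuleCat.{u} A) p ≅ psi R p) := by
  let T := curriedTensor (ModuleCat.{u} A)
  let tq : DRing.Cx A → DRing.Cx A ⥤ Dual.D A := fun K =>
    T.map₂CochainComplex.flip.obj K ⋙ DerivedCategory.Q
  let P := (ringCover A).P
  let ψ := (ringCover A).ψ
  let ε := (DRing.tensorCxQ A E).totalLeftDerivedCounit DerivedCategory.Q
    (HomologicalComplex.quasiIso (ModuleCat.{u} A) (ComplexShape.up ℤ))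
  let a : P ⋙ DerivedCategory.Q ⟶ DerivedCategory.Q :=
    Functor.whiskerRight ψ DerivedCategory.Q ≫ (Functor.leftUnitor _).hom
  haveI : ∀ K, IsIso (a.app K) := fun K => by
    have : IsIso (DerivedCategory.Q.map (ψ.app K)) :=
      (DerivedCategory.isIso_Q_map_iff_quasiIso _ _).2 ((ringCover A).quasiIso_ψ K)
    simpa [a] using this
  haveI : IsIso a := NatIso.isIso_of_isIso_app a
  let b : P ⋙ DerivedCategory.Q ⋙ DRing.LTensorCx A E ⟶ P ⋙ tq E := Functor.whiskerLeft P ε
  haveI : ∀ K, IsIso (b.app K) := fun K =>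
    (H9Misc.DRingLTensorCx.resTensorCx E).isIso_totalLeftDerivedCounit DerivedCategory.Q (kFlat_ringRes K)
  haveI : IsIso b := NatIso.isIso_of_isIso_app b
  let c : P ⋙ tq R ⟶ P ⋙ tq E :=
    Functor.whiskerLeft P (Functor.whiskerRight (T.map₂CochainComplex.flip.map q) DerivedCategory.Q)
  haveI : ∀ K, IsIso (c.app K) := fun K =>
    (DerivedCategory.isIso_Q_map_iff_quasiIso _ ((T.map₂CochainComplex.obj (P.obj K)).map q)).2
      (quasiIso_tensorHom_id q (kFlat_ringRes K))
  haveI : IsIso c := NatIso.isIso_of_isIso_app c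
  let d : P ⋙ tq R ⟶ tq R :=
    Functor.whiskerRight ψ _ ≫ (Functor.leftUnitor _).hom
  haveI : ∀ K, IsIso (d.app K) := fun K => by
    haveI := (ringCover A).quasiIso_ψ K
    have : IsIso ((tq R).map (ψ.app K)) :=
      (DerivedCategory.isIso_Q_map_iff_quasiIso _ ((T.map₂CochainComplex.flip.obj R).map (ψ.app K))).2
        (hR.quasiIso_map (ψ.app K))
    simpa [d] using this
  haveI : IsIso d := NatIso.isIso_of_isIso_app d
  let e : DerivedCategory.Q ⋙ DRing.LTensorCx A E ≅ tq R :=
    Functor.isoWhiskerRight (asIso a).symm (DRing.LTensorCx A E) ≪≫ Functor.associator _ _ _ ≪≫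
      asIso b ≪≫ (asIso c).symm ≪≫ asIso d
  let s := HomologicalComplex.single (ModuleCat.{u} A) (ComplexShape.up ℤ) 0
  exact ⟨Functor.isoWhiskerRight (DerivedCategory.singleFunctorIsoCompQ (ModuleCat.{u} A) 0) _ ≪≫
    Functor.associator _ _ _ ≪≫
    Functor.isoWhiskerLeft s ((Functor.associator _ _ _).symm ≪≫
      Functor.isoWhiskerRight e (DerivedCategory.homologyFunctor (ModuleCat.{u} A) p) ≪≫
      Functor.associator _ _ _ ≪≫
      Functor.isoWhiskerLeft (T.map₂CochainComplex.flip.obj R)
        (DerivedCategory.homologyFunctorFactors (ModuleCat.{u} A) p)) ≪≫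
    (Functor.associator _ _ _).symm ≪≫
    Functor.isoWhiskerRight (tenSingleIso R) _⟩

/-- Left exactness forces flat opcycles. -/
theorem flat_opcycles (R : DRing.Cx A) (p : ℤ) (hR : Module.Flat A (R.X (p + 1)))
    [PreservesFiniteLimits (psi R p)] : Module.Flat A (R.opcycles p : Type u) := by
  refine Module.Flat.iff_lTensor_preserves_injective_linearMap.2 fun N N' _ _ _ _ l hl => ?_
  let g : ModuleCat.of A N ⟶ ModuleCat.of A N' := ModuleCat.ofHom l
  haveI : Mono g := (ModuleCat.mono_iff_injective g).2 hl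
  let τ := (curriedTensor (ModuleCat.{u} A)).flip.map g
  haveI : Mono (τ.app (R.X (p + 1))) :=
    (ModuleCat.mono_iff_injective _).2 (Module.Flat.lTensor_preserves_injective_linearMap l hl)
  exact (ModuleCat.mono_iff_injective (τ.app (R.opcycles p))).1
    ((KExact.mono_homologyMap_iff τ R p).1 (inferInstanceAs (Mono ((psi R p).map g))))

/-- The form used for stalks. -/
theorem flat_opcycles_of_ltensor {E R : DRing.Cx A} [DRing.HasLTensorCx A E] (q : R ⟶ E) [QuasiIso q]
    (hR : ∀ i, Module.Flat A (R.X i)) (hKR : IsKF R) (p : ℤ)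
    (h : PreservesFiniteLimits (DerivedCategory.singleFunctor (ModuleCat.{u} A) 0 ⋙ DRing.LTensorCx A E ⋙
      DerivedCategory.homologyFunctor (ModuleCat.{u} A) p)) :
    Module.Flat A (R.opcycles p : Type u) := by
  obtain ⟨i⟩ := nonempty_psiIso q hKR p
  haveI := preservesFiniteLimits_of_natIso i
  exact flat_opcycles R p (hR _)

instance additive_ten (R : DRing.Cx A) : (ten R).Additive where
  map_add {G G' g g'} := by
    refine HomologicalComplex.hom_ext _ _ fun n => ?_
    exact ((curriedTensor (ModuleCat.{u} A)).obj (R.X n)).map_add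

/-- A flat complex tensored with a short exact sequence of modules. -/
lemma shortExact_ten (R : DRing.Cx A) (hR : ∀ n, Module.Flat A (R.X n))
    {S : ShortComplex (ModuleCat.{u} A)} (hS : S.ShortExact) :
    (S.map (ten R)).ShortExact :=
  (HomologicalComplex.shortExact_iff_degreewise_shortExact _).2 fun n =>
    haveI := hR n
    ShortComplex.shortExact_of_iso (S.mapNatIso (curriedTensorFlipIso.app (R.X n)))
      (flatObj_moduleCat (R.X n) S hS)

/-- Right exactness forces flat opcycles one step up. -/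
theorem flat_opcycles_succ (R : DRing.Cx A) (p : ℤ) (hR : ∀ n, Module.Flat A (R.X n))
    [PreservesFiniteColimits (psi R p)] : Module.Flat A (R.opcycles (p + 1) : Type u) := by
  refine Module.Flat.iff_lTensor_preserves_injective_linearMap.2 fun N N' _ _ _ _ l hl => ?_
  let g : ModuleCat.of A N ⟶ ModuleCat.of A N' := ModuleCat.ofHom l
  haveI : Mono g := (ModuleCat.mono_iff_injective g).2 hl
  let τ := (curriedTensor (ModuleCat.{u} A)).flip.map g
  haveI : Mono (τ.app (R.X (p + 1 + 1))) :=
    (ModuleCat.mono_iff_injective _).2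
      ((hR (p + 1 + 1)).lTensor_preserves_injective_linearMap l hl)
  have hS : (ShortComplex.mk g (cokernel.π g) (cokernel.condition g)).ShortExact :=
    { exact := ShortComplex.exact_of_g_is_cokernel _ (cokernelIsCokernel g) }
  have h := shortExact_ten R hR hS
  have hr : (ComplexShape.up ℤ).Rel p (p + 1) := rfl
  have hm : Mono ((psi R (p + 1)).map g) :=
    (h.homology_exact₁ p (p + 1) hr).mono_g ((h.homology_exact₃ p (p + 1) hr).epi_f_iff.1
      (inferInstanceAs (Epi ((psi R p).map (cokernel.π g)))))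
  exact (ModuleCat.mono_iff_injective (τ.app (R.opcycles (p + 1)))).1
    ((KExact.mono_homologyMap_iff τ R (p + 1)).1 hm)

/-- The form used for stalks, right exact case. -/
theorem flat_opcycles_succ_of_ltensor {E R : DRing.Cx A} [DRing.HasLTensorCx A E] (q : R ⟶ E) [QuasiIso q]
    (hR : ∀ i, Module.Flat A (R.X i)) (hKR : IsKF R) (p : ℤ)
    (h : PreservesFiniteColimits (DerivedCategory.singleFunctor (ModuleCat.{u} A) 0 ⋙ DRing.LTensorCx A E ⋙
      DerivedCategory.homologyFunctor (ModuleCat.{u} A) p)) :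
    Module.Flat A (R.opcycles (p + 1) : Type u) := by
  obtain ⟨i⟩ := nonempty_psiIso q hKR p
  haveI := preservesFiniteColimits_of_natIso i
  exact flat_opcycles_succ R p hR

end Groth.Agent.DRingSided
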